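import Cfsg.Prelude.Def_SevenCases
import Cfsg.Agent.SevenCases.Rows

/-!
# S1805, S1806, S1807: the table of facts about `σ(G)` and `L_p°(G)` (helper7)

Row formats (`P` a predicate on groups):

* `Sig0 P`     : `σ(G) = ∅` for the groups of type `P`;
* `SigThree P` : `σ(G) ⊆ {3}` for the groups of type `P`;
* `CThree P`   : every element of `L_3°(G)` is a `C_3`-group, for the groups of type `P`;
* `NotCT P`    : for every `p ∈ σ(G)` some element of `L_p°(G)` is not in `C_p ∪ T_p`, for the groups of type `P`;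
* `NotRes P`   : the groups of type `P` are not of restricted even type.
-/

set_option autoImplicit false

namespace Cfsg.Agent.SigTab

open Cfsg Cfsg.Agent.SevenCases

universe u

/-- `σ(G) = ∅` for the groups of type `P` -/
def Sig0 (P : ∀ (X : Type u) [Group X], Prop) : Prop :=
  ∀ (G : Type u) [Group G] [Finite G], P G → sigmaSet G = ∅

/-- `σ(G) ⊆ {3}` for the groups of type `P` -/
def SigThree (P : ∀ (X : Type u) [Group X], Prop) : Prop :=
  ∀ (G : Type u) [Group G] [Finite G], P G → ∀ p ∈ sigmaSet G, p = 3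

/-- every element of `L_3°(G)` is a `C_3`-group, for the groups of type `P` -/
def CThree (P : ∀ (X : Type u) [Group X], Prop) : Prop :=
  ∀ (G : Type u) [Group G] [Finite G], P G → LpoAll 3 G (InC 3)

/-- for every `p ∈ σ(G)` some element of `L_p°(G)` is not in `C_p ∪ T_p`, for the groups of type `P` -/
def NotCT (P : ∀ (X : Type u) [Group X], Prop) : Prop :=
  ∀ (G : Type u) [Group G] [Finite G], P G → ∀ p ∈ sigmaSet G, ¬ LpoAll p G (InCT p)

/-- the groups of type `P` are not of restricted even type -/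
def NotRes (P : ∀ (X : Type u) [Group X], Prop) : Prop :=
  ∀ (G : Type u) [Group G] [Finite G], P G → ¬ IsOfRestrictedEvenType G

/-! ### the types in characteristic two (the odd ones are in `SevenCases/Rows.lean`) -/

/-- `L_n(q)`, `q` even, with a condition on `n` and `q` -/
def PslEven (c : ℕ → ℕ → Prop) (X : Type u) [Group X] : Prop :=
  ∃ (F : Type) (_ : Field F) (_ : Fintype F) (n : ℕ), Even (Fintype.card F) ∧ c n (Fintype.card F) ∧
    Nonempty (X ≃* Matrix.ProjectiveSpecialLinearGroup (Fin n) F)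

/-- `U_n(q)`, `q` even, with a condition on `n` and `q` -/
def PsuEven (c : ℕ → ℕ → Prop) (X : Type u) [Group X] : Prop :=
  ∃ (F : Type) (_ : Field F) (_ : Fintype F) (n q : ℕ), Even q ∧ Fintype.card F = q ^ 2 ∧ c n q ∧
    Nonempty (X ≃* PSU n F q)

/-- `PSp_{2m}(q)`, `q` even, with a condition on `m` and `q` -/
def PspEven (c : ℕ → ℕ → Prop) (X : Type u) [Group X] : Prop :=
  ∃ (F : Type) (_ : Field F) (_ : Fintype F) (m : ℕ), Even (Fintype.card F) ∧ c m (Fintype.card F) ∧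
    Nonempty (X ≃* PSp m F)

/-- `PΩ⁺_{2m}(q)`, `q` even, with a condition on `m` and `q` -/
def OmegaPlusEven (c : ℕ → ℕ → Prop) (X : Type u) [Group X] : Prop :=
  ∃ (F : Type) (_ : Field F) (_ : Fintype F) (m : ℕ), Even (Fintype.card F) ∧ c m (Fintype.card F) ∧
    Nonempty (X ≃* POmega F (quadFormPlus m F))

/-- `PΩ⁻_{2m}(q)`, `q` even, with a condition on `m` and `q` -/
def OmegaMinusEven (c : ℕ → ℕ → Prop) (X : Type u) [Group X] : Prop :=
  ∃ (F : Type) (_ : Field F) (_ : Fintype F) (m : ℕ) (a b : F), Even (Fintype.card F) ∧ c m (Fintype.card F) ∧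
    (∀ z₁ z₂ : F, z₁ ^ 2 + a * z₁ * z₂ + b * z₂ ^ 2 = 0 → z₁ = 0 ∧ z₂ = 0) ∧
    Nonempty (X ≃* POmega F (quadFormMinus (m - 1) F a b))

/-- `G₂(q)`, `q` even, with a condition on `q` -/
def GTwoEven (c : ℕ → Prop) (X : Type u) [Group X] : Prop :=
  ∃ (F : Type) (_ : Field F) (_ : Fintype F), Even (Fintype.card F) ∧ c (Fintype.card F) ∧
    Nonempty (X ≃* ↥(Lie.chevG2.group F))

/-- `F₄(q)`, `q` even, with a condition on `q` -/
def FFourEven (c : ℕ → Prop) (X : Type u) [Group X] : Prop :=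
  ∃ (F : Type) (_ : Field F) (_ : Fintype F), Even (Fintype.card F) ∧ c (Fintype.card F) ∧
    Nonempty (X ≃* ↥(Lie.chevF4.group F))

/-- `E₆(q)`, `q` even -/
def ESixEven (X : Type u) [Group X] : Prop :=
  ∃ (F : Type) (_ : Field F) (_ : Fintype F), Even (Fintype.card F) ∧ Nonempty (X ≃* ↥(Lie.chevE6.group F))

/-- `E₇(q)`, `q` even -/
def ESevenEven (X : Type u) [Group X] : Prop :=
  ∃ (F : Type) (_ : Field F) (_ : Fintype F), Even (Fintype.card F) ∧ Nonempty (X ≃* ↥(Lie.chevE7.group F))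

/-- `E₈(q)`, `q` even -/
def EEightEven (X : Type u) [Group X] : Prop :=
  ∃ (F : Type) (_ : Field F) (_ : Fintype F), Even (Fintype.card F) ∧ Nonempty (X ≃* ↥(Lie.chevE8.group F))

/-- `²E₆(q)`, `q` even, with a condition on `q` -/
def TwESixEven (c : ℕ → Prop) (X : Type u) [Group X] : Prop :=
  ∃ (K : Type) (_ : Field K) (_ : Fintype K) (q : ℕ), Even q ∧ Fintype.card K = q ^ 2 ∧ c q ∧
    Nonempty (X ≃* ↥(Lie.twistedE6 K q))

/-- `³D₄(q)`, `q` even -/
def TwDFourEven (X : Type u) [Group X] : Prop :=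
  ∃ (K : Type) (_ : Field K) (_ : Fintype K) (q : ℕ), Even q ∧ Fintype.card K = q ^ 3 ∧
    Nonempty (X ≃* ↥(Lie.twistedD4 K q))

/-! ### the table -/

/-- `σ(G) = ∅`: groups of Lie type in characteristic two and alternating groups -/
structure Sig0Lie : Prop where
  alt : Sig0.{u} (fun X _ => Alt (fun n => n ≤ 12) X)
  psl : Sig0.{u} (fun X _ => PslEven (fun n q => 2 ≤ n ∧ (n ≤ 4 ∨ (n ≤ 7 ∧ q = 2))) X)
  psu : Sig0.{u} (fun X _ => PsuEven (fun n q => 3 ≤ n ∧ (n ≤ 5 ∨ (n = 6 ∧ q = 2))) X)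
  psp : Sig0.{u} (fun X _ => PspEven (fun m q => 2 ≤ m ∧ (m ≤ 3 ∨ (m = 4 ∧ q = 2))) X)
  omegaPlus : Sig0.{u} (fun X _ => OmegaPlusEven (fun m q => m = 4 ∧ q = 2) X)
  omegaMinus : Sig0.{u} (fun X _ => OmegaMinusEven (fun m _ => m = 4) X)
  g2 : Sig0.{u} (fun X _ => GTwoEven (fun _ => True) X)
  f4 : Sig0.{u} (fun X _ => FFourEven (fun q => q = 2) X)
  d4 : Sig0.{u} (fun X _ => TwDFourEven X)
  sz : Sig0.{u} (fun X _ => Lie.IsoSuzuki X)
  ree : Sig0.{u} (fun X _ => Lie.Iso2F4 X)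
  tits : Sig0.{u} (fun X _ => Lie.IsoTits X)
  l43 : Sig0.{u} (fun X _ => PslOdd (fun n q => n = 4 ∧ q = 3) X)
  u43 : Sig0.{u} (fun X _ => PsuOdd (fun n q => n = 4 ∧ q = 3) X)
  g23 : Sig0.{u} (fun X _ => GTwoOdd (fun q => q = 3) X)

/-- `σ(G) = ∅`: sporadic groups -/
structure Sig0Spor : Prop where
  m22 : Sig0.{u} (fun X _ => Spor.IsoM22 X)
  m23 : Sig0.{u} (fun X _ => Spor.IsoM23 X)
  m24 : Sig0.{u} (fun X _ => Spor.IsoM24 X)
  j2 : Sig0.{u} (fun X _ => Spor.IsoJ2 X)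
  j3 : Sig0.{u} (fun X _ => Spor.IsoJ3 X)
  j4 : Sig0.{u} (fun X _ => Spor.IsoJ4 X)
  hs : Sig0.{u} (fun X _ => Spor.IsoHS X)
  he : Sig0.{u} (fun X _ => Spor.IsoHe X)
  ru : Sig0.{u} (fun X _ => Spor.IsoRu X)
  suz : Sig0.{u} (fun X _ => Spor.IsoSuz X)
  co3 : Sig0.{u} (fun X _ => Spor.IsoCo3 X)
  co2 : Sig0.{u} (fun X _ => Spor.IsoCo2 X)
  hn : Sig0.{u} (fun X _ => Spor.IsoHN X)
  th : Sig0.{u} (fun X _ => Spor.IsoTh X)

/-- `σ(G) ⊆ {3}` for the twelve groups of the target set `K⁽⁵⁾` -/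
structure FiveSig : Prop where
  o73 : SigThree.{u} (fun X _ => OmegaOdd (fun m q => m = 3 ∧ q = 3) X)
  o8p3 : SigThree.{u} (fun X _ => OmegaPlusOdd (fun m q => m = 4 ∧ q = 3) X)
  o8m3 : SigThree.{u} (fun X _ => OmegaMinusOdd (fun m q => m = 4 ∧ q = 3) X)
  o10m2 : SigThree.{u} (fun X _ => OmegaMinusEven (fun m q => m = 5 ∧ q = 2) X)
  u72 : SigThree.{u} (fun X _ => PsuEven (fun n q => n = 7 ∧ q = 2) X)
  twE62 : SigThree.{u} (fun X _ => TwESixEven (fun q => q = 2) X)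
  fi22 : SigThree.{u} (fun X _ => Spor.IsoFi22 X)
  fi23 : SigThree.{u} (fun X _ => Spor.IsoFi23 X)
  fi24 : SigThree.{u} (fun X _ => Spor.IsoFi24' X)
  co1 : SigThree.{u} (fun X _ => Spor.IsoCo1 X)
  b : SigThree.{u} (fun X _ => Spor.IsoB X)
  m : SigThree.{u} (fun X _ => Spor.IsoM X)

/-- every element of `L_3°(G)` is a `C_3`-group, for the twelve groups of the target set `K⁽⁵⁾` -/
structure FiveC : Prop where
  o73 : CThree.{u} (fun X _ => OmegaOdd (fun m q => m = 3 ∧ q = 3) X)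
  o8p3 : CThree.{u} (fun X _ => OmegaPlusOdd (fun m q => m = 4 ∧ q = 3) X)
  o8m3 : CThree.{u} (fun X _ => OmegaMinusOdd (fun m q => m = 4 ∧ q = 3) X)
  o10m2 : CThree.{u} (fun X _ => OmegaMinusEven (fun m q => m = 5 ∧ q = 2) X)
  u72 : CThree.{u} (fun X _ => PsuEven (fun n q => n = 7 ∧ q = 2) X)
  twE62 : CThree.{u} (fun X _ => TwESixEven (fun q => q = 2) X)
  fi22 : CThree.{u} (fun X _ => Spor.IsoFi22 X)
  fi23 : CThree.{u} (fun X _ => Spor.IsoFi23 X)
  fi24 : CThree.{u} (fun X _ => Spor.IsoFi24' X)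
  co1 : CThree.{u} (fun X _ => Spor.IsoCo1 X)
  b : CThree.{u} (fun X _ => Spor.IsoB X)
  m : CThree.{u} (fun X _ => Spor.IsoM X)

/-- for every `p ∈ σ(G)` some element of `L_p°(G)` is neither in `C_p` nor in `T_p`: the other groups of Lie type in
characteristic two -/
structure NotCTRows : Prop where
  psl : NotCT.{u} (fun X _ => PslEven (fun n q => 5 ≤ n ∧ (q = 2 → 8 ≤ n)) X)
  psu : NotCT.{u} (fun X _ => PsuEven (fun n q => 6 ≤ n ∧ (q = 2 → 8 ≤ n)) X)
  psp : NotCT.{u} (fun X _ => PspEven (fun m q => 4 ≤ m ∧ (q = 2 → 5 ≤ m)) X)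
  omegaPlus : NotCT.{u} (fun X _ => OmegaPlusEven (fun m q => 4 ≤ m ∧ (q = 2 → 5 ≤ m)) X)
  omegaMinus : NotCT.{u} (fun X _ => OmegaMinusEven (fun m q => 5 ≤ m ∧ (q = 2 → 6 ≤ m)) X)
  f4 : NotCT.{u} (fun X _ => FFourEven (fun q => 2 < q) X)
  e6 : NotCT.{u} (fun X _ => ESixEven X)
  e7 : NotCT.{u} (fun X _ => ESevenEven X)
  e8 : NotCT.{u} (fun X _ => EEightEven X)
  twE6 : NotCT.{u} (fun X _ => TwESixEven (fun q => 2 < q) X)

/-- groups which are not of restricted even type (besides the ones with a `G₂`-group in `L₂°`, structure `GenRows` of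
`SevenCases/Rows.lean`) -/
structure NotResRows : Prop where
  psl2 : NotRes.{u} (fun X _ => PslOdd (fun n _ => n = 2) X)
  psl3 : NotRes.{u} (fun X _ => PslOdd (fun n _ => n = 3) X)
  psu3 : NotRes.{u} (fun X _ => PsuOdd (fun n _ => n = 3) X)
  psl4 : NotRes.{u} (fun X _ => PslOdd (fun n q => n = 4 ∧ 3 < q) X)
  psu4 : NotRes.{u} (fun X _ => PsuOdd (fun n q => n = 4 ∧ 3 < q) X)
  psp4 : NotRes.{u} (fun X _ => PspOdd (fun m q => m = 2 ∧ 3 < q) X)
  g2 : NotRes.{u} (fun X _ => GTwoOdd (fun q => 3 < q) X)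
  d4 : NotRes.{u} (fun X _ => TwDFourOdd X)
  ree : NotRes.{u} (fun X _ => Lie.IsoRee X)
  mcl : NotRes.{u} (fun X _ => Spor.IsoMcL X)
  ly : NotRes.{u} (fun X _ => Spor.IsoLy X)
  on : NotRes.{u} (fun X _ => Spor.IsoON X)

end Cfsg.Agent.SigTab
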