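import Cfsg.Agent.SigTab.Rows

/-!
# The known simple groups of restricted even type (helper4)

`RestList G` : `G` is of Lie type in characteristic two, `A₈`, `A₁₂`, `L₄(3)`, `U₄(3)`, `G₂(3)`, `PΩ₇(3)`, `PΩ₈^±(3)` or
one of the 20 sporadic groups of `SporRes`.

`restList` : a known non-abelian simple group of restricted even type is on this list; the input is the table
(`GenRows`, `BRows` of `SevenCases/Rows.lean` and the rows `NotResMore` below).
-/

set_option autoImplicit false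

namespace Cfsg.Agent.SigTab

open Cfsg Cfsg.Agent.SevenCases

universe u

/-! ### the list -/

/-- the sporadic groups of restricted even type -/
def RestSpor (G : Type u) [Group G] : Prop :=
  Spor.IsoM22 G ∨ Spor.IsoM23 G ∨ Spor.IsoM24 G ∨ Spor.IsoJ2 G ∨ Spor.IsoJ3 G ∨ Spor.IsoJ4 G ∨ Spor.IsoHS G ∨
    Spor.IsoHe G ∨ Spor.IsoRu G ∨ Spor.IsoSuz G ∨ Spor.IsoCo1 G ∨ Spor.IsoCo2 G ∨ Spor.IsoCo3 G ∨ Spor.IsoFi22 G ∨
    Spor.IsoFi23 G ∨ Spor.IsoFi24' G ∨ Spor.IsoHN G ∨ Spor.IsoTh G ∨ Spor.IsoB G ∨ Spor.IsoM G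

/-- the known simple groups of restricted even type -/
def RestList (G : Type u) [Group G] : Prop :=
  IsChevSimple 2 G ∨ Alt (fun n => n = 8) G ∨ Alt (fun n => n = 12) G ∨
    PslOdd (fun n q => n = 4 ∧ q = 3) G ∨ PsuOdd (fun n q => n = 4 ∧ q = 3) G ∨ GTwoOdd (fun q => q = 3) G ∨
    OmegaOdd (fun m q => m = 3 ∧ q = 3) G ∨ OmegaPlusOdd (fun m q => m = 4 ∧ q = 3) G ∨
    OmegaMinusOdd (fun m q => m = 4 ∧ q = 3) G ∨ RestSpor G

/-! ### the rows -/

/-- the groups of type `P` are of Lie type in characteristic 2 -/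
def ChevTwo (P : ∀ (X : Type u) [Group X], Prop) : Prop :=
  ∀ (G : Type u) [Group G] [Finite G], P G → IsChevSimple 2 G

/-- A `B₂`-group is not a `C₂`-group. -/
def BNotC : Prop := ∀ (K : Type u) [Group K] [Finite K], InBTwo K → ¬ InC 2 K

/-- The rows "not of restricted even type" which do not come from `GenRows` and `BRows`. -/
structure NotResMore : Prop where
  /-- 2-rank 2 -/
  alt : NotRes.{u} (fun X _ => Alt (fun n => 5 ≤ n ∧ n ≤ 7) X)
  alt9 : NotRes.{u} (fun X _ => Alt (fun n => 9 ≤ n ∧ n ≤ 11) X)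
  /-- 2-rank 2 -/
  psl2 : NotRes.{u} (fun X _ => PslOdd (fun n _ => n = 2) X)
  /-- 2-rank 2 -/
  psl3 : NotRes.{u} (fun X _ => PslOdd (fun n _ => n = 3) X)
  /-- 2-rank 2 -/
  psu3 : NotRes.{u} (fun X _ => PsuOdd (fun n _ => n = 3) X)
  /-- component `L₂(q)`, `q = 3^(2m+1) ≥ 27`, of an involution centralizer; or 2-rank 3 -/
  ree : NotRes.{u} (fun X _ => Lie.IsoRee X)
  /-- 2-rank 2 -/
  m11 : NotRes.{u} (fun X _ => Spor.IsoM11 X)
  /-- 2-rank 3 and an involution centralizer `2 × S₅` -/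
  m12 : NotRes.{u} (fun X _ => Spor.IsoM12 X)
  /-- 2-rank 3 and an involution centralizer `2 × A₅` -/
  j1 : NotRes.{u} (fun X _ => Spor.IsoJ1 X)
  /-- component `4·L₃(4)` of an involution centralizer -/
  on : NotRes.{u} (fun X _ => Spor.IsoON X)
  /-- `PSp₄(3) ≅ U₄(2)` -/
  psp43 : ChevTwo.{u} (fun X _ => PspOdd (fun m q => m = 2 ∧ q = 3) X)

/-! ### consequences of the rows -/

/-- the groups with a `G₂`-group in `L₂°` are not of even type -/
theorem not_even_of_gp {G : Type u} [Group G] (h : LpoExists 2 G (InGp 2)) : ¬ IsOfEvenType G := by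
  rintro ⟨hc, -⟩
  obtain ⟨x, hx, -, K, hK, -, -, -, h1, -⟩ := h
  exact h1 (hc x hx K hK)

/-- the groups with a `B₂`-group in `L₂` are not of even type -/
theorem not_even_of_b {G : Type u} [Group G] [Finite G] (hBC : BNotC.{u}) (h : LpExists 2 G InBTwo) :
    ¬ IsOfEvenType G := by
  rintro ⟨hc, -⟩
  obtain ⟨x, hx, K, hK, h1⟩ := h
  exact hBC _ h1 (hc x hx K hK)

theorem Gen.notRes {P : ∀ (X : Type u) [Group X], Prop} (h : Gen.{u} P) : NotRes.{u} P :=
  fun G _ _ hG hR => not_even_of_gp (h G hG) hR.1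

theorem BTwo.notRes {P : ∀ (X : Type u) [Group X], Prop} (hBC : BNotC.{u}) (h : BTwo.{u} P) : NotRes.{u} P :=
  fun G _ _ hG hR => not_even_of_b hBC (h G hG) hR.1

/-- the rows `NotResRows` of `SigTab/Rows.lean` -/
theorem notResRows (hB : BRows.{u}) (hBC : BNotC.{u}) (hN : NotResMore.{u}) : NotResRows.{u} where
  psl2 := hN.psl2
  psl3 := hN.psl3
  psu3 := hN.psu3
  psl4 := BTwo.notRes hBC hB.psl4
  psu4 := BTwo.notRes hBC hB.psu4
  psp4 := BTwo.notRes hBC hB.psp4
  g2 := BTwo.notRes hBC hB.g2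
  d4 := BTwo.notRes hBC hB.d4
  ree := hN.ree
  mcl := BTwo.notRes hBC hB.mcl
  ly := BTwo.notRes hBC hB.ly
  on := hN.on

/-! ### the characteristic of a finite field -/

theorem char_two_or_odd (F : Type) [Field F] [Fintype F] : CharP F 2 ∨ Odd (Fintype.card F) := by
  by_cases h : ringChar F = 2
  · left
    rw [← h]
    exact ringChar.charP F
  · right
    exact Nat.odd_iff.2 (FiniteField.odd_card_of_char_ne_two h)

theorem odd_of_odd_pow {q k : ℕ} (h : Odd (q ^ k)) (hk : k ≠ 0) : Odd q := by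
  rwa [Nat.odd_pow_iff hk] at h

theorem char_two_or_odd_pow (F : Type) [Field F] [Fintype F] {q k : ℕ} (hq : Fintype.card F = q ^ k) (hk : k ≠ 0) :
    CharP F 2 ∨ Odd q := by
  rcases char_two_or_odd F with h | h
  · exact Or.inl h
  · right
    rw [hq] at h
    exact odd_of_odd_pow h hk

theorem isMulCommutative_of_primeCyclic {G : Type*} [Group G] (h : IsPrimeCyclic G) : IsMulCommutative G := by
  have : Fact (Nat.card G).Prime := ⟨h⟩
  have hc : IsCyclic G := isCyclic_of_prime_card (p := Nat.card G) rfl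
  refine ⟨⟨fun a b => ?_⟩⟩
  obtain ⟨g, hg⟩ := hc.exists_generator
  obtain ⟨m, rfl⟩ := Subgroup.mem_zpowers_iff.1 (hg a)
  obtain ⟨n, rfl⟩ := Subgroup.mem_zpowers_iff.1 (hg b)
  rw [← zpow_add, ← zpow_add, add_comm]

theorem card_ge_three {F : Type} [Field F] [Fintype F] (h : Odd (Fintype.card F)) : 3 ≤ Fintype.card F := by
  have h1 := Fintype.one_lt_card (α := F)
  rcases h with ⟨k, hk⟩
  omega

theorem q_ge_three {F : Type} [Field F] [Fintype F] {q k : ℕ} (hq : Fintype.card F = q ^ k) (h : Odd q) : 3 ≤ q := by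
  have h1 := Fintype.one_lt_card (α := F)
  rcases h with ⟨j, hj⟩
  rcases Nat.eq_zero_or_pos j with rfl | hj'
  · subst hj
    simp at hq
    omega
  · omega

/-! ### the theorem -/

/-- **A known non-abelian simple group of restricted even type is on `RestList`.** -/
theorem restList (hG : GenRows.{u}) (hB : BRows.{u}) (hBC : BNotC.{u}) (hN : NotResMore.{u})
    {G : Type u} [Group G] [Finite G] (hk : IsKnownSimple' G) (hna : ¬ IsMulCommutative G)
    (hR : IsOfRestrictedEvenType G) : RestList G := by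
  rcases hk with h | h | h | h | h | h | h | h | h | h
  · exact absurd (isMulCommutative_of_primeCyclic h) hna
  · -- alternating groups
    obtain ⟨n, hn, e⟩ := h
    by_cases h13 : 13 ≤ n
    · exact absurd hR (Gen.notRes hG.alt G ⟨n, h13, e⟩)
    · by_cases h12 : n = 12
      · exact Or.inr (Or.inr (Or.inl ⟨n, h12, e⟩))
      · by_cases h9 : 9 ≤ n
        · exact absurd hR (hN.alt9 G ⟨n, ⟨h9, by omega⟩, e⟩)
        · by_cases h8 : n = 8
          · exact Or.inr (Or.inl ⟨n, h8, e⟩)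
          · exact absurd hR (hN.alt G ⟨n, ⟨hn, by omega⟩, e⟩)
  · -- PSL
    obtain ⟨F, iF, iFt, n, hn, hn2, e⟩ := h
    rcases char_two_or_odd F with hc | hc
    · exact Or.inl (Or.inl (Or.inl ⟨F, iF, iFt, hc, n, hn, hn2, e⟩))
    · by_cases h2 : n = 2
      · exact absurd hR (hN.psl2 G ⟨F, iF, iFt, n, hc, h2, e⟩)
      · by_cases h3 : n = 3
        · exact absurd hR (hN.psl3 G ⟨F, iF, iFt, n, hc, h3, e⟩)
        · by_cases h4 : n = 4
          · by_cases hq : Fintype.card F = 3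
            · exact Or.inr (Or.inr (Or.inr (Or.inl ⟨F, iF, iFt, n, hc, ⟨h4, hq⟩, e⟩)))
            · have h5 := card_ge_three hc
              exact absurd hR (BTwo.notRes hBC hB.psl4 G ⟨F, iF, iFt, n, hc, ⟨h4, by omega⟩, e⟩)
          · exact absurd hR (Gen.notRes hG.psl G ⟨F, iF, iFt, n, hc, by omega, e⟩)
  · -- PSp
    obtain ⟨F, iF, iFt, m, hm, hm2, e⟩ := h
    rcases char_two_or_odd F with hc | hc
    · exact Or.inl (Or.inl (Or.inr (Or.inl ⟨F, iF, iFt, hc, m, hm, hm2, e⟩)))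
    · by_cases h2 : m = 2
      · by_cases hq : Fintype.card F = 3
        · exact Or.inl (hN.psp43 G ⟨F, iF, iFt, m, hc, ⟨h2, hq⟩, e⟩)
        · have h5 := card_ge_three hc
          exact absurd hR (BTwo.notRes hBC hB.psp4 G ⟨F, iF, iFt, m, hc, ⟨h2, by omega⟩, e⟩)
      · exact absurd hR (Gen.notRes hG.psp G ⟨F, iF, iFt, m, hc, by omega, e⟩)
  · -- PSU
    obtain ⟨F, iF, iFt, n, q, hq, hn, hn3, e⟩ := h
    rcases char_two_or_odd_pow F hq two_ne_zero with hc | hc
    · exact Or.inl (Or.inl (Or.inr (Or.inr (Or.inl ⟨F, iF, iFt, hc, n, q, hq, hn, hn3, e⟩))))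
    · by_cases h3 : n = 3
      · exact absurd hR (hN.psu3 G ⟨F, iF, iFt, n, q, hc, hq, h3, e⟩)
      · by_cases h4 : n = 4
        · by_cases hq3 : q = 3
          · exact Or.inr (Or.inr (Or.inr (Or.inr (Or.inl ⟨F, iF, iFt, n, q, hc, hq, ⟨h4, hq3⟩, e⟩))))
          · have h5 := q_ge_three hq hc
            exact absurd hR (BTwo.notRes hBC hB.psu4 G ⟨F, iF, iFt, n, q, hc, hq, ⟨h4, by omega⟩, e⟩)
        · exact absurd hR (Gen.notRes hG.psu G ⟨F, iF, iFt, n, q, hc, hq, by omega, e⟩)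
  · -- PΩ odd
    obtain ⟨F, iF, iFt, m, hm, hc, e⟩ := h
    by_cases h3 : m = 3 ∧ Fintype.card F = 3
    · exact Or.inr (Or.inr (Or.inr (Or.inr (Or.inr (Or.inr (Or.inl ⟨F, iF, iFt, m, hc, h3, e⟩))))))
    · exact absurd hR (Gen.notRes hG.omegaOdd G ⟨F, iF, iFt, m, hc, ⟨hm, h3⟩, e⟩)
  · -- PΩ⁺
    obtain ⟨F, iF, iFt, m, hm, e⟩ := h
    rcases char_two_or_odd F with hc | hc
    · exact Or.inl (Or.inl (Or.inr (Or.inr (Or.inr (Or.inr (Or.inl ⟨F, iF, iFt, hc, m, hm, e⟩))))))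
    · by_cases h3 : m = 4 ∧ Fintype.card F = 3
      · exact Or.inr (Or.inr (Or.inr (Or.inr (Or.inr (Or.inr (Or.inr (Or.inl ⟨F, iF, iFt, m, hc, h3, e⟩)))))))
      · exact absurd hR (Gen.notRes hG.omegaPlus G ⟨F, iF, iFt, m, hc, ⟨hm, h3⟩, e⟩)
  · -- PΩ⁻
    obtain ⟨F, iF, iFt, m, a, b, hm, hab, e⟩ := h
    rcases char_two_or_odd F with hc | hc
    · exact Or.inl (Or.inl (Or.inr (Or.inr (Or.inr (Or.inr (Or.inr (Or.inl ⟨F, iF, iFt, hc, m, a, b, hm, hab, e⟩)))))))
    · by_cases h3 : m = 4 ∧ Fintype.card F = 3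
      · exact Or.inr (Or.inr (Or.inr (Or.inr (Or.inr (Or.inr (Or.inr (Or.inr
          (Or.inl ⟨F, iF, iFt, m, a, b, hc, h3, hab, e⟩))))))))
      · exact absurd hR (Gen.notRes hG.omegaMinus G ⟨F, iF, iFt, m, a, b, hc, ⟨hm, h3⟩, hab, e⟩)
  · -- exceptional groups
    rcases h with h | h | h | h | h | h | h | h | h | h | h
    · obtain ⟨F, iF, iFt, h3, e⟩ := h
      rcases char_two_or_odd F with hc | hc
      · exact Or.inl (Or.inl (Or.inr (Or.inr (Or.inr (Or.inr (Or.inr (Or.inr (Or.inl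
          ⟨F, iF, iFt, hc, Or.inl ⟨h3, e⟩⟩))))))))
      · by_cases hq : Fintype.card F = 3
        · exact Or.inr (Or.inr (Or.inr (Or.inr (Or.inr (Or.inl ⟨F, iF, iFt, hc, hq, e⟩)))))
        · exact absurd hR (BTwo.notRes hBC hB.g2 G ⟨F, iF, iFt, hc, by omega, e⟩)
    · obtain ⟨F, iF, iFt, e⟩ := h
      rcases char_two_or_odd F with hc | hc
      · exact Or.inl (Or.inl (Or.inr (Or.inr (Or.inr (Or.inr (Or.inr (Or.inr (Or.inl
          ⟨F, iF, iFt, hc, Or.inr (Or.inl e)⟩))))))))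
      · exact absurd hR (Gen.notRes hG.exc G ⟨F, iF, iFt, hc, Or.inl e⟩)
    · obtain ⟨F, iF, iFt, e⟩ := h
      rcases char_two_or_odd F with hc | hc
      · exact Or.inl (Or.inl (Or.inr (Or.inr (Or.inr (Or.inr (Or.inr (Or.inr (Or.inl
          ⟨F, iF, iFt, hc, Or.inr (Or.inr (Or.inl e))⟩))))))))
      · exact absurd hR (Gen.notRes hG.exc G ⟨F, iF, iFt, hc, Or.inr (Or.inl e)⟩)
    · obtain ⟨F, iF, iFt, e⟩ := h
      rcases char_two_or_odd F with hc | hc
      · exact Or.inl (Or.inl (Or.inr (Or.inr (Or.inr (Or.inr (Or.inr (Or.inr (Or.inl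
          ⟨F, iF, iFt, hc, Or.inr (Or.inr (Or.inr (Or.inl e)))⟩))))))))
      · exact absurd hR (Gen.notRes hG.exc G ⟨F, iF, iFt, hc, Or.inr (Or.inr (Or.inl e))⟩)
    · obtain ⟨F, iF, iFt, e⟩ := h
      rcases char_two_or_odd F with hc | hc
      · exact Or.inl (Or.inl (Or.inr (Or.inr (Or.inr (Or.inr (Or.inr (Or.inr (Or.inl
          ⟨F, iF, iFt, hc, Or.inr (Or.inr (Or.inr (Or.inr e)))⟩))))))))
      · exact absurd hR (Gen.notRes hG.exc G ⟨F, iF, iFt, hc, Or.inr (Or.inr (Or.inr e))⟩)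
    · obtain ⟨K, iK, iKt, q, hpp, hq, e⟩ := h
      rcases char_two_or_odd_pow K hq two_ne_zero with hc | hc
      · exact Or.inl (Or.inl (Or.inr (Or.inr (Or.inr (Or.inr (Or.inr (Or.inr (Or.inr (Or.inl
          ⟨K, iK, iKt, hc, q, hpp, Or.inl ⟨hq, e⟩⟩)))))))))
      · exact absurd hR (Gen.notRes hG.twE6 G ⟨K, iK, iKt, q, hc, hq, e⟩)
    · obtain ⟨K, iK, iKt, q, hpp, hq, e⟩ := h
      rcases char_two_or_odd_pow K hq three_ne_zero with hc | hc
      · exact Or.inl (Or.inl (Or.inr (Or.inr (Or.inr (Or.inr (Or.inr (Or.inr (Or.inr (Or.inl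
          ⟨K, iK, iKt, hc, q, hpp, Or.inr ⟨hq, e⟩⟩)))))))))
      · exact absurd hR (BTwo.notRes hBC hB.d4 G ⟨K, iK, iKt, q, hc, hq, e⟩)
    · exact Or.inl (Or.inl (Or.inr (Or.inr (Or.inr (Or.inr (Or.inr (Or.inr (Or.inr (Or.inr (Or.inl ⟨rfl, h⟩)))))))))) 
    · exact absurd hR (hN.ree G h)
    · exact Or.inl (Or.inl (Or.inr (Or.inr (Or.inr (Or.inr (Or.inr (Or.inr (Or.inr (Or.inr (Or.inr
        (Or.inl ⟨rfl, h⟩)))))))))))
    · exact Or.inl (Or.inr (Or.inl ⟨rfl, Or.inr (Or.inr h)⟩))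
  · -- sporadic groups
    have key : RestSpor G → RestList G := fun h' =>
      Or.inr (Or.inr (Or.inr (Or.inr (Or.inr (Or.inr (Or.inr (Or.inr (Or.inr h'))))))))
    rcases h with h | h | h | h | h | h | h | h | h | h | h | h | h | h | h | h | h | h | h | h | h | h | h | h | h | h
    · exact absurd hR (hN.m11 G h)
    · exact absurd hR (hN.m12 G h)
    · exact key (by unfold RestSpor; tauto)
    · exact key (by unfold RestSpor; tauto)
    · exact key (by unfold RestSpor; tauto)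
    · exact absurd hR (hN.j1 G h)
    · exact key (by unfold RestSpor; tauto)
    · exact key (by unfold RestSpor; tauto)
    · exact key (by unfold RestSpor; tauto)
    · exact key (by unfold RestSpor; tauto)
    · exact key (by unfold RestSpor; tauto)
    · exact key (by unfold RestSpor; tauto)
    · exact absurd hR (BTwo.notRes hBC hB.mcl G h)
    · exact key (by unfold RestSpor; tauto)
    · exact key (by unfold RestSpor; tauto)
    · exact key (by unfold RestSpor; tauto)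
    · exact key (by unfold RestSpor; tauto)
    · exact absurd hR (hN.on G h)
    · exact absurd hR (BTwo.notRes hBC hB.ly G h)
    · exact key (by unfold RestSpor; tauto)
    · exact key (by unfold RestSpor; tauto)
    · exact key (by unfold RestSpor; tauto)
    · exact key (by unfold RestSpor; tauto)
    · exact key (by unfold RestSpor; tauto)
    · exact key (by unfold RestSpor; tauto)
    · exact key (by unfold RestSpor; tauto)

end Cfsg.Agent.SigTab
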